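import Cfsg.Agent.H567.KW.Idx
import Cfsg.Agent.H567.KW.GUTwo

/-!
# S4243, row K3 (PSU): the blocks (helper567)
-/

set_option autoImplicit false
set_option linter.unusedSectionVars false

namespace Cfsg.Agent.H567.KW

open Matrix Cfsg
open Cfsg.Agent.LieClassical.SUBasic
open Cfsg.Agent.ClassicalGeometry.PSUAutCount Cfsg.Agent.ClassicalGeometry.UnitAutBasic
open Cfsg.Agent.H993.OnPSUc (blk NB permB permB_eq bigHom bigHom_injective gm_bigHom isB_big big gm_inv_apply)
open Cfsg.Agent.ClassicalGeometry.GUBasic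

variable {F : Type*} [Field F] {q n m s : ℕ}

/-- supported on block `k` -/
def On (ε : Fin n ≃ (Fin 2 × Fin m) ⊕ Fin s) (k : Fin m) (v : Fin n → F) : Prop := ∀ j, blk ε j ≠ some k → v j = 0

/-- supported off block `k` -/
def Off (ε : Fin n ≃ (Fin 2 × Fin m) ⊕ Fin s) (k : Fin m) (v : Fin n → F) : Prop := ∀ j, blk ε j = some k → v j = 0

/-- the coordinates of block `k` -/
def cc (ε : Fin n ≃ (Fin 2 × Fin m) ⊕ Fin s) (k : Fin m) (a : Fin 2) : Fin n := ε.symm (Sum.inl (a, k))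

variable {ε : Fin n ≃ (Fin 2 × Fin m) ⊕ Fin s}

theorem blk_cc (k : Fin m) (a : Fin 2) : blk ε (cc ε k a) = some k := by
  unfold blk cc
  rw [Equiv.apply_symm_apply]
  rfl

theorem exists_cc {k : Fin m} {j : Fin n} (h : blk ε j = some k) : ∃ a, j = cc ε k a := by
  unfold blk at h
  rcases hj : ε j with ⟨a, l⟩ | x <;> rw [hj] at h
  · have h1 : l = k := Option.some.inj h
    subst h1
    exact ⟨a, by unfold cc; rw [← hj, Equiv.symm_apply_apply]⟩
  · exact absurd h (by simp)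

theorem cc_inj {k l : Fin m} {a b : Fin 2} (h : cc ε k a = cc ε l b) : k = l ∧ a = b := by
  unfold cc at h
  have h1 := ε.symm.injective h
  simp only [Sum.inl.injEq, Prod.mk.injEq] at h1
  exact ⟨h1.2, h1.1⟩

theorem split (ε : Fin n ≃ (Fin 2 × Fin m) ⊕ Fin s) (k : Fin m) (v : Fin n → F) : ∃ a b, On ε k a ∧ Off ε k b ∧ v = a + b := by
  classical
  refine ⟨fun j => if blk ε j = some k then v j else 0, fun j => if blk ε j = some k then 0 else v j, ?_, ?_, ?_⟩
  · intro j h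
    exact if_neg h
  · intro j h
    exact if_pos h
  · funext j
    rw [Pi.add_apply]
    by_cases h : blk ε j = some k
    · rw [if_pos h, if_pos h, add_zero]
    · rw [if_neg h, if_neg h, zero_add]

theorem ext_on_off (k : Fin m) {A B : Matrix (Fin n) (Fin n) F} (h1 : ∀ v, On ε k v → A *ᵥ v = B *ᵥ v)
    (h2 : ∀ v, Off ε k v → A *ᵥ v = B *ᵥ v) : A = B := by
  apply Matrix.ext_of_mulVec_single
  intro i
  obtain ⟨a, b, ha, hb, h⟩ := split ε k (Pi.single i (1 : F))
  rw [h, mulVec_add, mulVec_add, h1 a ha, h2 b hb]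

theorem On.isB {A : Matrix (Fin n) (Fin n) F} {π : Equiv.Perm (Fin m)} (hA : H993.OnPSUc.IsB ε A π) {k : Fin m}
    {v : Fin n → F} (hv : On ε k v) : On ε (π k) (A *ᵥ v) := by
  intro i hi
  show ∑ j, A i j * v j = 0
  refine Finset.sum_eq_zero fun j _ => ?_
  by_cases h : blk ε j = some k
  · rw [hA i j, zero_mul]
    rw [h]
    exact hi
  · rw [hv j h, mul_zero]

theorem Off.isB {A : Matrix (Fin n) (Fin n) F} {π : Equiv.Perm (Fin m)} (hA : H993.OnPSUc.IsB ε A π) {k : Fin m}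
    {v : Fin n → F} (hv : Off ε k v) : Off ε (π k) (A *ᵥ v) := by
  intro i hi
  show ∑ j, A i j * v j = 0
  refine Finset.sum_eq_zero fun j _ => ?_
  by_cases h : blk ε j = some k
  · rw [hv j h, mul_zero]
  · rw [hA i j, zero_mul]
    intro h1
    apply h
    rw [hi] at h1
    rcases hj : blk ε j with _ | l
    · rw [hj] at h1
      exact absurd h1 (by simp)
    · rw [hj] at h1
      have h2 : π k = π l := Option.some.inj h1
      rw [π.injective h2]

theorem On.off {k l : Fin m} (hkl : k ≠ l) {v : Fin n → F} (hv : On ε k v) : Off ε l v := by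
  intro j hj
  apply hv
  rw [hj]
  intro h
  exact hkl (Option.some.inj h).symm

/-- the subgroup `SU_2(q)` of block `k` -/
def KG (ε : Fin n ≃ (Fin 2 × Fin m) ⊕ Fin s) (F : Type*) [Field F] (q : ℕ) (k : Fin m) : Subgroup (GU n F q) where
  carrier := {A | (∀ v, Off ε k v → gm A *ᵥ v = v) ∧ (gm A).det = 1}
  one_mem' := ⟨fun v _ => by rw [gm_one, one_mulVec], by rw [gm_one, det_one]⟩
  mul_mem' := by
    rintro A B ⟨h1, h2⟩ ⟨h3, h4⟩
    refine ⟨fun v hv => ?_, ?_⟩
    · rw [gm_mul, ← mulVec_mulVec, h3 v hv, h1 v hv]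
    · rw [gm_mul, det_mul, h2, h4, one_mul]
  inv_mem' := by
    rintro A ⟨h1, h2⟩
    refine ⟨fun v hv => ?_, ?_⟩
    · conv_lhs => rw [← h1 v hv]
      exact gm_inv_mulVec A v
    · have h3 := congrArg Matrix.det (gm_mul_inv A)
      rwa [det_mul, h2, one_mul, det_one] at h3

theorem mem_KG {k : Fin m} {A : GU n F q} : A ∈ KG ε F q k ↔ (∀ v, Off ε k v → gm A *ᵥ v = v) ∧ (gm A).det = 1 := Iff.rfl

theorem off_single {k : Fin m} {i : Fin n} (h : blk ε i ≠ some k) : Off ε k (Pi.single i (1 : F)) := by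
  intro j hj
  rw [Pi.single_eq_of_ne]
  rintro rfl
  exact h hj

theorem KG_col {k : Fin m} {A : GU n F q} (hA : A ∈ KG ε F q k) {i : Fin n} (h : blk ε i ≠ some k) (j : Fin n) :
    gm A j i = (1 : Matrix (Fin n) (Fin n) F) j i := by
  have h1 := congrFun (hA.1 _ (off_single h)) j
  rw [mulVec_single_one] at h1
  rw [show gm A j i = (gm A).col i j from rfl, h1, Matrix.one_apply, Pi.single_apply]

/-- elements of `KG` are block diagonal -/
theorem isB_KG (hq : q ≠ 0) {k : Fin m} {A : GU n F q} (hA : A ∈ KG ε F q k) : H993.OnPSUc.IsB ε (gm A) 1 := by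
  intro i j h
  have hij : i ≠ j := by
    rintro rfl
    apply h
    cases blk ε i <;> rfl
  by_cases hj : blk ε j = some k
  · have hi : blk ε i ≠ some k := by
      intro hi
      apply h
      rw [hi, hj]
      rfl
    have h1 := KG_col (inv_mem hA) hi j
    rw [gm_inv_apply hq, transpose_apply, map_apply, one_apply_ne hij.symm] at h1
    exact eq_zero_of_pow_eq_zero h1
  · rw [KG_col hA hj i, one_apply_ne hij]

theorem KG_le (hq : q ≠ 0) (k : Fin m) : KG ε F q k ≤ NB hq ε F := fun _ hA => ⟨1, isB_KG hq hA⟩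

/-- the subgroup `SU_2(q)` of block `k` as a subgroup of `NB` -/
def KB (hq : q ≠ 0) (ε : Fin n ≃ (Fin 2 × Fin m) ⊕ Fin s) (F : Type*) [Field F] (k : Fin m) : Subgroup (NB hq ε F) :=
  (KG ε F q k).subgroupOf (NB hq ε F)

theorem mem_KB {hq : q ≠ 0} {k : Fin m} {A : NB hq ε F} : A ∈ KB hq ε F k ↔ (A : GU n F q) ∈ KG ε F q k := Iff.rfl

/-- `L` permutes the blocks -/
noncomputable instance actB (hq : q ≠ 0) (ε : Fin n ≃ (Fin 2 × Fin m) ⊕ Fin s) (F : Type*) [Field F] :
    MulAction (NB hq ε F) (Fin m) :=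
  MulAction.compHom (Fin m) (permB hq (by norm_num : 0 < 2) ε F)

theorem isB_smul {hq : q ≠ 0} (g : NB hq ε F) :
    H993.OnPSUc.IsB ε (gm (g : GU n F q)) (permB hq (by norm_num : 0 < 2) ε F g) := g.2.choose_spec

theorem smul_def' {hq : q ≠ 0} (g : NB hq ε F) (k : Fin m) : g • k = permB hq (by norm_num : 0 < 2) ε F g k := rfl

theorem isB_of_fix {hq : q ≠ 0} {g : NB hq ε F} (h : ∀ k : Fin m, g • k = k) : H993.OnPSUc.IsB ε (gm (g : GU n F q)) 1 := by
  have h1 : permB hq (by norm_num : 0 < 2) ε F g = 1 := Equiv.ext h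
  have h2 := isB_smul g
  rwa [h1] at h2

theorem fix_of_isB {hq : q ≠ 0} {g : NB hq ε F} (h : H993.OnPSUc.IsB ε (gm (g : GU n F q)) 1) (k : Fin m) : g • k = k := by
  rw [smul_def', permB_eq h]
  rfl

theorem hK {hq : q ≠ 0} (g : NB hq ε F) (k : Fin m) (x : NB hq ε F) (hx : x ∈ KB hq ε F k) :
    g * x * g⁻¹ ∈ KB hq ε F (g • k) := by
  rw [mem_KB] at hx ⊢
  refine ⟨fun v hv => ?_, ?_⟩
  · show (gm ((g : GU n F q) * (x : GU n F q) * (g : GU n F q)⁻¹)) *ᵥ v = v
    rw [gm_mul, gm_mul, ← mulVec_mulVec, ← mulVec_mulVec]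
    have h1 : Off ε k (gm (g : GU n F q)⁻¹ *ᵥ v) := by
      have h2 := Off.isB (isB_smul g⁻¹) hv
      rw [map_inv] at h2
      have h3 : (permB hq (by norm_num : 0 < 2) ε F g)⁻¹ (g • k) = k :=
        Equiv.symm_apply_apply _ k
      rw [h3] at h2
      exact h2
    rw [hx.1 _ h1, gm_mulVec_inv]
  · show (gm ((g : GU n F q) * (x : GU n F q) * (g : GU n F q)⁻¹)).det = 1
    rw [gm_mul, gm_mul, det_mul, det_mul, hx.2, mul_one, ← det_mul, gm_mul_inv, det_one]

theorem comm {hq : q ≠ 0} (i j : Fin m) (hij : i ≠ j) (x : NB hq ε F) (hx : x ∈ KB hq ε F i) (y : NB hq ε F)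
    (hy : y ∈ KB hq ε F j) : x * y = y * x := by
  rw [mem_KB] at hx hy
  apply Subtype.ext
  apply gm_inj
  show gm ((x : GU n F q) * (y : GU n F q)) = gm ((y : GU n F q) * (x : GU n F q))
  rw [gm_mul, gm_mul]
  refine ext_on_off (ε := ε) i (fun v hv => ?_) (fun v hv => ?_)
  · rw [← mulVec_mulVec, ← mulVec_mulVec, hy.1 v (hv.off hij), hy.1 _ ((On.isB (isB_KG hq hx) hv).off hij)]
  · rw [← mulVec_mulVec, ← mulVec_mulVec, hx.1 v hv, hx.1 _ (Off.isB (isB_KG hq hy) hv)]

theorem htriv {hq : q ≠ 0} (i j : Fin m) (x : NB hq ε F) (hx : x ∈ KB hq ε F i) : x • j = j :=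
  fix_of_isB (isB_KG hq hx) j

/-! ### the homomorphism onto `GU_2` -/

theorem sum_blk {k : Fin m} {f : Fin n → F} (hf : ∀ i, blk ε i ≠ some k → f i = 0) : ∑ i, f i = ∑ a, f (cc ε k a) := by
  rw [← Equiv.sum_comp ε.symm f, Fintype.sum_sum_type, Fintype.sum_prod_type]
  have h1 : ∀ x : Fin s, f (ε.symm (Sum.inr x)) = 0 := by
    intro x
    apply hf
    unfold blk
    rw [Equiv.apply_symm_apply]
    simp
  have h2 : ∀ a : Fin 2, ∑ l : Fin m, f (ε.symm (Sum.inl (a, l))) = f (cc ε k a) := by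
    intro a
    refine Finset.sum_eq_single k (fun l _ hl => ?_) (fun h => absurd (Finset.mem_univ _) h)
    apply hf
    rw [show ε.symm (Sum.inl (a, l)) = cc ε l a from rfl, blk_cc]
    intro h
    exact hl (Option.some.inj h)
  rw [Finset.sum_eq_zero (fun x _ => h1 x), add_zero]
  exact Finset.sum_congr rfl fun a _ => h2 a

/-- the block `k` of a matrix -/
def bm (ε : Fin n ≃ (Fin 2 × Fin m) ⊕ Fin s) (k : Fin m) (A : Matrix (Fin n) (Fin n) F) : Matrix (Fin 2) (Fin 2) F :=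
  A.submatrix (cc ε k) (cc ε k)

theorem bm_mul {k : Fin m} {A B : Matrix (Fin n) (Fin n) F} (hB : H993.OnPSUc.IsB ε B 1) :
    bm ε k (A * B) = bm ε k A * bm ε k B := by
  ext a b
  unfold bm
  rw [submatrix_apply, mul_apply, mul_apply]
  refine sum_blk fun i hi => ?_
  rw [hB i (cc ε k b), mul_zero]
  rw [blk_cc]
  exact hi

theorem bm_one {k : Fin m} : bm ε k (1 : Matrix (Fin n) (Fin n) F) = 1 := by
  ext a b
  unfold bm
  rw [submatrix_apply, one_apply, one_apply]
  by_cases h : a = b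
  · rw [if_pos h, if_pos (by rw [h])]
  · rw [if_neg h, if_neg (fun h1 => h (cc_inj h1).2)]

theorem isB_inv {A : GU n F q} (hq : q ≠ 0) (hA : H993.OnPSUc.IsB ε (gm A) 1) : H993.OnPSUc.IsB ε (gm A⁻¹) 1 := by
  have h1 := hA.inv hq
  rwa [inv_one] at h1

/-- the block diagonal group -/
def BD (hq : q ≠ 0) (ε : Fin n ≃ (Fin 2 × Fin m) ⊕ Fin s) (F : Type*) [Field F] : Subgroup (GU n F q) where
  carrier := {A | H993.OnPSUc.IsB ε (gm A) 1}
  one_mem' := H993.OnPSUc.isB_one
  mul_mem' := by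
    intro A B hA hB
    have h1 := H993.OnPSUc.IsB.mul hA hB
    rwa [one_mul] at h1
  inv_mem' := fun hA => isB_inv hq hA

/-- the block `k` as a homomorphism -/
def bl (hq : q ≠ 0) (ε : Fin n ≃ (Fin 2 × Fin m) ⊕ Fin s) (F : Type*) [Field F] (k : Fin m) :
    BD hq ε F →* GL (Fin 2) F where
  toFun A := ⟨bm ε k (gm (A : GU n F q)), bm ε k (gm (A : GU n F q)⁻¹), by
      rw [← bm_mul (isB_inv hq A.2), gm_mul_inv, bm_one], by
      rw [← bm_mul A.2, gm_inv_mul, bm_one]⟩
  map_one' := Units.ext bm_one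
  map_mul' A B := Units.ext (bm_mul B.2)

theorem bl_val {hq : q ≠ 0} {k : Fin m} (A : BD hq ε F) :
    (bl hq ε F k A : Matrix (Fin 2) (Fin 2) F) = bm ε k (gm (A : GU n F q)) := rfl

variable [Fintype F]

theorem bl_mem (hF : Fintype.card F = q ^ 2) {hq : q ≠ 0} {k : Fin m} (A : BD hq ε F) : bl hq ε F k A ∈ GU 2 F q := by
  refine (mem_GU_iff _).2 (H993.OnPSUc.herm_of_mul hF ?_)
  show (bm ε k (gm (A : GU n F q)))ᵀ * (bm ε k (gm (A : GU n F q))).map (fun x => x ^ q) = 1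
  have h1 : (gm (A : GU n F q))ᵀ * (gm (A : GU n F q)).map (fun x => x ^ q) = 1 :=
    transpose_mul_map hq (fun u v => herm_gm (A : GU n F q) u v)
  have h2 : H993.OnPSUc.IsB ε ((gm (A : GU n F q)).map (fun x => x ^ q)) 1 := by
    intro i j h
    rw [map_apply, A.2 i j h, zero_pow hq]
  have h3 : bm ε k ((gm (A : GU n F q))ᵀ * (gm (A : GU n F q)).map (fun x => x ^ q)) =
      bm ε k (gm (A : GU n F q))ᵀ * bm ε k ((gm (A : GU n F q)).map (fun x => x ^ q)) := bm_mul h2
  rw [h1, bm_one] at h3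
  exact h3.symm

theorem big_cc (a : Fin m → Matrix (Fin 2) (Fin 2) F) (k : Fin m) : bm ε k (big ε a) = a k := by
  ext x y
  unfold bm big cc
  rw [submatrix_apply, submatrix_apply, Equiv.apply_symm_apply, Equiv.apply_symm_apply, fromBlocks_apply₁₁,
    blockDiagonal_apply, if_pos rfl]

/-- the embedding of `GU_2` on block `k` -/
def inK (hF : Fintype.card F = q ^ 2) (ε : Fin n ≃ (Fin 2 × Fin m) ⊕ Fin s) (k : Fin m) : GU 2 F q →* GU n F q :=
  (bigHom hF ε).comp (MonoidHom.mulSingle (fun _ : Fin m => GU 2 F q) k)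

theorem inK_isB (hF : Fintype.card F = q ^ 2) (k : Fin m) (B : GU 2 F q) : H993.OnPSUc.IsB ε (gm (inK hF ε k B)) 1 :=
  isB_big _

theorem bm_inK (hF : Fintype.card F = q ^ 2) (k : Fin m) (B : GU 2 F q) : bm ε k (gm (inK hF ε k B)) = gm B := by
  show bm ε k (big ε (fun l => gm ((MonoidHom.mulSingle (fun _ : Fin m => GU 2 F q) k B) l))) = gm B
  rw [big_cc]
  simp

theorem inK_injective (hF : Fintype.card F = q ^ 2) (k : Fin m) : Function.Injective (inK hF ε k) := by
  intro A B h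
  apply gm_inj
  rw [← bm_inK (ε := ε) hF k A, h, bm_inK]

theorem range_bl (hF : Fintype.card F = q ^ 2) {hq : q ≠ 0} (k : Fin m) : (bl hq ε F k).range = GU 2 F q := by
  ext B
  constructor
  · rintro ⟨A, rfl⟩
    exact bl_mem hF A
  · intro hB
    exact ⟨⟨inK hF ε k ⟨B, hB⟩, inK_isB hF k _⟩, Units.ext (bm_inK hF k ⟨B, hB⟩)⟩

/-- action on vectors on block `k` -/
theorem mulVec_on {k : Fin m} {A B : GU n F q} (hA : H993.OnPSUc.IsB ε (gm A) 1)
    (hB : H993.OnPSUc.IsB ε (gm B) 1) (h : bm ε k (gm A) = bm ε k (gm B)) {v : Fin n → F} (hv : On ε k v) :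
    gm A *ᵥ v = gm B *ᵥ v := by
  funext i
  by_cases hi : blk ε i = some k
  · obtain ⟨a, rfl⟩ := exists_cc hi
    show ∑ j, gm A (cc ε k a) j * v j = ∑ j, gm B (cc ε k a) j * v j
    rw [sum_blk (ε := ε) (k := k) (fun j hj => by rw [hv j hj, mul_zero]),
      sum_blk (ε := ε) (k := k) (fun j hj => by rw [hv j hj, mul_zero])]
    refine Finset.sum_congr rfl fun b _ => ?_
    have h1 := congrFun (congrFun h a) b
    unfold bm at h1
    rw [submatrix_apply, submatrix_apply] at h1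
    rw [h1]
  · rw [On.isB hA hv i hi, On.isB hB hv i hi]

theorem mulVec_scalar {k : Fin m} {A : GU n F q} (hA : H993.OnPSUc.IsB ε (gm A) 1) {c : F}
    (h : bm ε k (gm A) = c • 1) {v : Fin n → F} (hv : On ε k v) : gm A *ᵥ v = c • v := by
  funext i
  by_cases hi : blk ε i = some k
  · obtain ⟨a, rfl⟩ := exists_cc hi
    show ∑ j, gm A (cc ε k a) j * v j = c * v (cc ε k a)
    rw [sum_blk (ε := ε) (k := k) (fun j hj => by rw [hv j hj, mul_zero])]
    have h2 : ∀ b, gm A (cc ε k a) (cc ε k b) = (c • (1 : Matrix (Fin 2) (Fin 2) F)) a b := fun b =>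
      congrFun (congrFun h a) b
    rw [Finset.sum_eq_single a]
    · rw [h2 a, Matrix.smul_apply, one_apply_eq, smul_eq_mul, mul_one]
    · intro b _ hb
      rw [h2 b, Matrix.smul_apply, one_apply_ne hb.symm, smul_zero, zero_mul]
    · intro h
      exact absurd (Finset.mem_univ _) h
  · have h3 : gm A *ᵥ v = gm A *ᵥ v := rfl
    rw [On.isB hA hv i hi, Pi.smul_apply, hv i hi, smul_zero]

/-- scalars on block `k` commute with `K k` -/
theorem comm_of_scalar {hq : q ≠ 0} {k : Fin m} {x y : NB hq ε F} (hx : H993.OnPSUc.IsB ε (gm (x : GU n F q)) 1) {c : F}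
    (h : bm ε k (gm (x : GU n F q)) = c • 1) (hy : y ∈ KB hq ε F k) : x * y = y * x := by
  rw [mem_KB] at hy
  apply Subtype.ext
  apply gm_inj
  show gm ((x : GU n F q) * (y : GU n F q)) = gm ((y : GU n F q) * (x : GU n F q))
  rw [gm_mul, gm_mul]
  refine ext_on_off (ε := ε) k (fun v hv => ?_) (fun v hv => ?_)
  · rw [← mulVec_mulVec, ← mulVec_mulVec, mulVec_scalar hx h hv, mulVec_smul,
      mulVec_scalar hx h (On.isB (isB_KG hq hy) hv)]
  · rw [← mulVec_mulVec, ← mulVec_mulVec, hy.1 v hv, hy.1 _ (Off.isB hx hv)]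

theorem det_big (a : Fin m → Matrix (Fin 2) (Fin 2) F) : (big ε a).det = ∏ k, (a k).det := by
  unfold big
  rw [det_submatrix_equiv_self, det_fromBlocks_zero₁₂, det_one, mul_one, det_blockDiagonal]

theorem det_inK (hF : Fintype.card F = q ^ 2) (k : Fin m) (B : GU 2 F q) : (gm (inK hF ε k B)).det = (gm B).det := by
  show (big ε (fun l => gm ((MonoidHom.mulSingle (fun _ : Fin m => GU 2 F q) k B) l))).det = (gm B).det
  rw [det_big, Finset.prod_eq_single k]
  · simp
  · intro l _ hl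
    rw [MonoidHom.mulSingle_apply, Pi.mulSingle_eq_of_ne hl, gm_one, det_one]
  · intro h
    exact absurd (Finset.mem_univ _) h

theorem inK_off (hF : Fintype.card F = q ^ 2) (k : Fin m) (B : GU 2 F q) {v : Fin n → F} (hv : Off ε k v) :
    gm (inK hF ε k B) *ᵥ v = v := by
  funext i
  have hq : q ≠ 0 := by
    rintro rfl
    have h1 : 1 < Fintype.card F := Fintype.one_lt_card
    rw [hF] at h1
    norm_num at h1
  show ∑ j, big ε (fun l => gm ((MonoidHom.mulSingle (fun _ : Fin m => GU 2 F q) k B) l)) i j * v j = v i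
  have h1 : ∀ i j, blk ε j ≠ some k → big ε (fun l => gm ((MonoidHom.mulSingle (fun _ : Fin m => GU 2 F q) k B) l)) i j =
      (1 : Matrix (Fin n) (Fin n) F) i j := by
    intro i j hj
    rw [← H993.OnPSUc.big_one (ε := ε)]
    unfold big
    rw [submatrix_apply, submatrix_apply]
    unfold blk at hj
    rcases hi : ε i with ⟨a, l⟩ | x <;> rcases hj' : ε j with ⟨b, l'⟩ | y <;> rw [hj'] at hj
    · rw [fromBlocks_apply₁₁, fromBlocks_apply₁₁, blockDiagonal_apply, blockDiagonal_apply]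
      by_cases h : l = l'
      · subst h
        have hl : l ≠ k := fun h => hj (by rw [h]; rfl)
        rw [if_pos rfl, if_pos rfl, MonoidHom.mulSingle_apply, Pi.mulSingle_eq_of_ne hl, gm_one]
        rfl
      · rw [if_neg h, if_neg h]
    · rfl
    · rfl
    · rfl
  have h2 : ∀ j, big ε (fun l => gm ((MonoidHom.mulSingle (fun _ : Fin m => GU 2 F q) k B) l)) i j * v j =
      (1 : Matrix (Fin n) (Fin n) F) i j * v j := by
    intro j
    by_cases hj : blk ε j = some k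
    · rw [hv j hj, mul_zero, mul_zero]
    · rw [h1 i j hj]
  rw [Finset.sum_congr rfl (fun j _ => h2 j)]
  exact congrFun (one_mulVec v) i

theorem inK_mem (hF : Fintype.card F = q ^ 2) (k : Fin m) {B : GU 2 F q} (hB : (gm B).det = 1) :
    inK hF ε k B ∈ KG ε F q k :=
  ⟨fun v hv => inK_off hF k B hv, by rw [det_inK, hB]⟩

theorem eq_inK (hF : Fintype.card F = q ^ 2) {hq : q ≠ 0} {k : Fin m} {A : GU n F q} (hA : A ∈ KG ε F q k) :
    A = inK hF ε k ⟨bl hq ε F k ⟨A, isB_KG hq hA⟩, bl_mem hF _⟩ := by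
  apply gm_inj
  refine ext_on_off (ε := ε) k (fun v hv => ?_) (fun v hv => ?_)
  · exact mulVec_on (isB_KG hq hA) (inK_isB hF k _) (by rw [bm_inK]; rfl) hv
  · rw [hA.1 v hv, inK_off hF k _ hv]

theorem det_bl (hF : Fintype.card F = q ^ 2) {hq : q ≠ 0} {k : Fin m} {A : GU n F q} (hA : A ∈ KG ε F q k) :
    (bm ε k (gm A)).det = 1 := by
  have h1 := hA.2
  rw [eq_inK hF (hq := hq) hA, det_inK] at h1
  exact h1

/-- the embedding of `SU_2` on block `k` -/
def slK (hF : Fintype.card F = q ^ 2) (hq : q ≠ 0) (ε : Fin n ≃ (Fin 2 × Fin m) ⊕ Fin s) (k : Fin m) :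
    Cfsg.Agent.H838.KW.slPart (GU 2 F q) →* NB hq ε F :=
  ((inK hF ε k).comp (Subgroup.inclusion inf_le_left)).codRestrict (NB hq ε F) fun B =>
    KG_le hq k (inK_mem hF k (congrArg Units.val (MonoidHom.mem_ker.1 B.2.2)))

theorem slK_injective (hF : Fintype.card F = q ^ 2) (hq : q ≠ 0) (k : Fin m) : Function.Injective (slK hF hq ε k) := by
  intro A B h
  have h1 : inK hF ε k (Subgroup.inclusion inf_le_left A) = inK hF ε k (Subgroup.inclusion inf_le_left B) :=
    congrArg (fun x : NB hq ε F => (x : GU n F q)) h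
  exact Subgroup.inclusion_injective _ (inK_injective hF k h1)

theorem range_slK (hF : Fintype.card F = q ^ 2) (hq : q ≠ 0) (k : Fin m) : (slK hF hq ε k).range = KB hq ε F k := by
  ext x
  constructor
  · rintro ⟨B, rfl⟩
    exact inK_mem hF k (congrArg Units.val (MonoidHom.mem_ker.1 B.2.2))
  · intro hx
    refine ⟨⟨bl hq ε F k ⟨(x : GU n F q), isB_KG hq hx⟩, bl_mem hF _, ?_⟩, ?_⟩
    · apply MonoidHom.mem_ker.2
      apply Units.ext
      exact det_bl hF (hq := hq) hx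
    · apply Subtype.ext
      exact (eq_inK hF (hq := hq) hx).symm

/-- `K k ≃* SU_2` -/
theorem equiv_KB (hF : Fintype.card F = q ^ 2) {hq : q ≠ 0} (k : Fin m) :
    Nonempty (Cfsg.Agent.H838.KW.slPart (GU 2 F q) ≃* KB hq ε F k) :=
  ⟨(MonoidHom.ofInjective (slK_injective hF hq k)).trans (MulEquiv.subgroupCongr (range_slK hF hq k))⟩

end Cfsg.Agent.H567.KW
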