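import Cfsg.Agent.H993.OnPSUc
import Cfsg.Agent.H751.Big.Val2
import Cfsg.Agent.H567.GapPSU

/-!
# S4243, row K3 (PSU): the block monomial group has odd index in `GU_n(q)` (helper567)
-/

set_option autoImplicit false
set_option linter.unusedSectionVars false

namespace Cfsg.Agent.H567.KW

open Matrix Cfsg
open Cfsg.Agent.LieClassical.SUBasic
open Cfsg.Agent.ClassicalGeometry.PSUAutCount Cfsg.Agent.ClassicalGeometry.UnitAutBasic
open Cfsg.Agent.H993.OnPSUc
open Cfsg.Agent.H183.OutPSU Cfsg.Agent.H709.Mono Cfsg.Agent.H709.GmnCrit Cfsg.Agent.H709.GmnPSU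
open Cfsg.Agent.ClassicalGeometry.GUBasic
open Cfsg.Agent.H751.Big (vv2 val_card_GU2)

variable {F : Type*} [Field F] [Fintype F] {q n m s : ℕ}

theorem card_NB_eq {hq : q ≠ 0} {e : ℕ} (he : 0 < e) (ε : Fin n ≃ (Fin e × Fin m) ⊕ Fin s) :
    Nat.card (NB hq ε F) = Nat.card (permB hq he ε F).ker * m.factorial := by
  have hfin : Finite (GU n F q) := LieClassical.GUOrder.finite_GU n
  have hc : Nat.card (Equiv.Perm (Fin m)) = m.factorial := by
    rw [Nat.card_eq_fintype_card, Fintype.card_perm, Fintype.card_fin]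
  rw [← Subgroup.card_mul_index (permB hq he ε F).ker, Subgroup.index_ker,
    MonoidHom.range_eq_top.2 permB_surjective, Subgroup.card_top, hc]

theorem gm_scGU (x : ↥(powMonoidHom (q + 1) : Fˣ →* Fˣ).ker) :
    gm (Gap.scGU n F q x) = Matrix.diagonal fun _ => ((x : Fˣ) : F) := rfl

theorem isB_scalar {e : ℕ} {ε : Fin n ≃ (Fin e × Fin m) ⊕ Fin s} (c : F) :
    H993.OnPSUc.IsB ε (Matrix.diagonal fun _ : Fin n => c) 1 := by
  intro i j h
  apply Matrix.diagonal_apply_ne
  rintro rfl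
  apply h
  cases blk ε i <;> rfl

theorem big_inr {e : ℕ} (ε : Fin n ≃ (Fin e × Fin m) ⊕ Fin s) (a : Fin m → Matrix (Fin e) (Fin e) F) (x y : Fin s) :
    big ε a (ε.symm (Sum.inr x)) (ε.symm (Sum.inr y)) = (1 : Matrix (Fin s) (Fin s) F) x y := by
  unfold big
  rw [Matrix.submatrix_apply, Equiv.apply_symm_apply, Equiv.apply_symm_apply, Matrix.fromBlocks_apply₂₂]

theorem scGU_comm (x : ↥(powMonoidHom (q + 1) : Fˣ →* Fˣ).ker) (A : GU n F q) :
    Gap.scGU n F q x * A = A * Gap.scGU n F q x := by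
  apply gm_inj
  rw [gm_mul, gm_mul, gm_scGU, ← Matrix.smul_one_eq_diagonal, Matrix.smul_mul, Matrix.mul_smul, one_mul, mul_one]

/-- the extra factor for odd `n` -/
theorem card_dvd_ker_one (hF : Fintype.card F = q ^ 2) {hq : q ≠ 0} {e : ℕ} (he : 0 < e)
    (ε : Fin n ≃ (Fin e × Fin m) ⊕ Fin 1) :
    Nat.card (GU e F q) ^ m * (q + 1) ∣ Nat.card (permB hq he ε F).ker := by
  have hfin : Finite (GU n F q) := LieClassical.GUOrder.finite_GU n
  have hE : Nat.card ((Fin m → GU e F q) × ↥(powMonoidHom (q + 1) : Fˣ →* Fˣ).ker) = Nat.card (GU e F q) ^ m * (q + 1) := by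
    rw [Nat.card_prod, Nat.card_fun, Nat.card_fin, Gap.card_ker_pow' hF]
  have hB : ∀ x : (Fin m → GU e F q) × ↥(powMonoidHom (q + 1) : Fˣ →* Fˣ).ker,
      H993.OnPSUc.IsB ε (gm (bigHom hF ε x.1 * Gap.scGU n F q x.2)) 1 := by
    intro x
    have h1 := (isB_big (ε := ε) (fun k => gm (x.1 k))).mul (isB_scalar (ε := ε) ((x.2 : Fˣ) : F))
    rwa [one_mul] at h1
  let D : ((Fin m → GU e F q) × ↥(powMonoidHom (q + 1) : Fˣ →* Fˣ).ker) →* (permB hq he ε F).ker :=
    { toFun := fun x => ⟨⟨bigHom hF ε x.1 * Gap.scGU n F q x.2, 1, hB x⟩, permB_eq (hB x)⟩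
      map_one' := by
        apply Subtype.ext
        apply Subtype.ext
        show bigHom hF ε 1 * Gap.scGU n F q 1 = 1
        rw [map_one, map_one, one_mul]
      map_mul' := by
        intro a b
        apply Subtype.ext
        apply Subtype.ext
        show bigHom hF ε (a.1 * b.1) * Gap.scGU n F q (a.2 * b.2) =
          bigHom hF ε a.1 * Gap.scGU n F q a.2 * (bigHom hF ε b.1 * Gap.scGU n F q b.2)
        rw [map_mul, map_mul, mul_assoc, mul_assoc, ← mul_assoc (bigHom hF ε b.1), ← scGU_comm a.2, mul_assoc] }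
  rw [← hE]
  apply Subgroup.card_dvd_of_injective D
  intro a b hab
  have h2 : bigHom hF ε a.1 * Gap.scGU n F q a.2 = bigHom hF ε b.1 * Gap.scGU n F q b.2 :=
    congrArg (fun x : (permB hq he ε F).ker => ((x : NB hq ε F) : GU n F q)) hab
  have h3 := congrFun (congrFun (congrArg gm h2) (ε.symm (Sum.inr 0))) (ε.symm (Sum.inr 0))
  rw [gm_mul, gm_mul, gm_scGU, gm_scGU, Matrix.mul_diagonal, Matrix.mul_diagonal, gm_bigHom, gm_bigHom, big_inr, big_inr,
    Matrix.one_apply_eq, one_mul, one_mul] at h3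
  have h4 : a.2 = b.2 := Subtype.ext (Units.ext h3)
  rw [h4] at h2
  exact Prod.ext (bigHom_injective hF (mul_right_cancel h2)) h4

/-- the index is odd -/
theorem not_dvd_index (hF : Fintype.card F = q ^ 2) (hodd : Odd q) {hq : q ≠ 0} (hs : s ≤ 1)
    (ε : Fin n ≃ (Fin 2 × Fin m) ⊕ Fin s) : ¬ 2 ∣ (NB hq ε F).index := by
  have hfin : Finite (GU n F q) := LieClassical.GUOrder.finite_GU n
  have hfin2 : Finite (GU 2 F q) := LieClassical.GUOrder.finite_GU 2
  have hn : n = 2 * m + s := by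
    have := Fintype.card_congr ε
    rw [Fintype.card_sum, Fintype.card_prod, Fintype.card_fin, Fintype.card_fin, Fintype.card_fin, Fintype.card_fin] at this
    exact this
  have h1 : Nat.card (GU 2 F q) ^ m * (q + 1) ^ s * m.factorial ∣ Nat.card (NB hq ε F) := by
    rw [card_NB_eq (by norm_num : 0 < 2) ε]
    apply Nat.mul_dvd_mul_right
    obtain rfl | rfl : s = 0 ∨ s = 1 := by omega
    · rw [pow_zero, mul_one]
      have h2 := card_dvd_NB (ε := ε) hF (hq := hq) (by norm_num : 0 < 2)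
      rw [card_NB_eq (by norm_num : 0 < 2) ε] at h2
      exact Nat.dvd_of_mul_dvd_mul_right (Nat.factorial_pos m) h2
    · rw [pow_one]
      exact card_dvd_ker_one hF (by norm_num : 0 < 2) ε
  intro hd
  have e4 := Subgroup.card_mul_index (NB hq ε F)
  have h5 : Nat.card (GU 2 F q) ^ m * (q + 1) ^ s * m.factorial * 2 ∣ Nat.card (GU n F q) := by
    rw [← e4]
    exact Nat.mul_dvd_mul h1 hd
  have : Fact (Nat.Prime 2) := ⟨Nat.prime_two⟩
  have h6 : Nat.card (GU n F q) ≠ 0 := Nat.card_pos.ne'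
  have h8 : Nat.card (GU 2 F q) ≠ 0 := Nat.card_pos.ne'
  have h9 : (q + 1) ^ s ≠ 0 := pow_ne_zero _ (by omega)
  have h7 : padicValNat 2 (Nat.card (GU 2 F q) ^ m * (q + 1) ^ s * m.factorial * 2) ≤ padicValNat 2 (Nat.card (GU n F q)) :=
    padicValNat_dvd_iff_le h6 |>.1 ((pow_padicValNat_dvd).trans h5)
  rw [padicValNat.mul (mul_ne_zero (mul_ne_zero (pow_ne_zero _ h8) h9) (Nat.factorial_ne_zero _)) (by norm_num),
    padicValNat.self (by norm_num), padicValNat.mul (mul_ne_zero (pow_ne_zero _ h8) h9) (Nat.factorial_ne_zero _),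
    padicValNat.mul (pow_ne_zero _ h8) h9, padicValNat.pow, padicValNat.pow, val_card_GU2 hF hodd, val_card_GU2 hF hodd] at h7
  unfold vv2 at h7
  have h10 : n / 2 = m := by omega
  rw [h10, hn] at h7
  simp only [Nat.factorial_one, Nat.reduceDiv] at h7
  generalize padicValNat 2 (q + 1) = x at h7
  generalize padicValNat 2 (q - 1) = y at h7
  generalize padicValNat 2 m.factorial = z at h7
  have h11 : m * (2 * x + 1 * y + padicValNat 2 1) + s * x + z + 1 = (2 * m + s) * x + m * y + z + 1 := by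
    rw [padicValNat_one_right]
    ring
  omega

end Cfsg.Agent.H567.KW
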