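import Cfsg.Agent.H567.KW.Blk
import Cfsg.Agent.H838.KW.Two
import Cfsg.Agent.ClassicalGeometry.PSUAutDelta
import Cfsg.Agent.H482.SylowNumbers
import Cfsg.Agent.S0280

/-!
# S4243, row K3: `NoP 2 r (PSU n F q)` for `q > 3` (helper567)
-/

set_option autoImplicit false
set_option linter.unusedSectionVars false

namespace Cfsg.Agent.H567.KW

open Matrix Cfsg
open Cfsg.Agent.LieClassical.SUBasic
open Cfsg.Agent.ClassicalGeometry.PSUAutCount Cfsg.Agent.ClassicalGeometry.UnitAutBasic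
open Cfsg.Agent.H993.OnPSUc (blk NB permB permB_eq bigHom bigHom_injective gm_bigHom isB_big big gm_inv_apply)
open Cfsg.Agent.ClassicalGeometry.GUBasic
open Cfsg.Agent.H838.KW Cfsg.Agent.H146.KW
open Cfsg.Agent.LieClassical.HermBasic (herm_add_left herm_smul_left herm_sub_left herm_add_right herm_smul_right
  herm_sub_right herm_swap herm_single_right herm_single_left exists_norm_eq herm_eq_zero_swap)

/-! ### (ha) -/

section ha

variable {F : Type} [Field F] [Fintype F] {r : ℕ} [Fact r.Prime] [CharP F r] {q n m s : ℕ}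
  {ε : Fin n ≃ (Fin 2 × Fin m) ⊕ Fin s}

/-- block `k` on the kernel -/
noncomputable def fk (hF : Fintype.card F = q ^ 2) (hq : q ≠ 0) (ε : Fin n ≃ (Fin 2 × Fin m) ⊕ Fin s) (k : Fin m) :
    ker (NB hq ε F) (Fin m) →* GU 2 F q :=
  ((bl hq ε F k).comp (((NB hq ε F).subtype.comp (ker (NB hq ε F) (Fin m)).subtype).codRestrict (BD hq ε F)
    fun x => isB_of_fix (mem_ker.1 x.2))).codRestrict (GU 2 F q) fun x => bl_mem hF _

theorem fk_surjective (hF : Fintype.card F = q ^ 2) (hq : q ≠ 0) (k : Fin m) : Function.Surjective (fk hF hq ε k) := by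
  intro B
  refine ⟨⟨⟨inK hF ε k B, 1, inK_isB hF k B⟩, mem_ker.2 (fix_of_isB (inK_isB hF k B))⟩, ?_⟩
  apply Subtype.ext
  apply Units.ext
  exact bm_inK hF k B

theorem ha (hr : r ≠ 2) (hF : Fintype.card F = q ^ 2) (hq3 : 3 < q) {hq : q ≠ 0} (H' : Subgroup (NB hq ε F))
    (hH : PSub 2 H') (hrH : ¬ r ∣ Nat.card H') (x : NB hq ε F) (hx : x ∈ H') (hfix : ∀ i : Fin m, x • i = i)
    (h2 : ∃ k : ℕ, x ^ 2 ^ k = 1) (i : Fin m) (y : NB hq ε F) (hy : y ∈ KB hq ε F i) : x * y = y * x := by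
  have hfin : Finite (GU n F q) := LieClassical.GUOrder.finite_GU n
  have hfin2 : Finite (GU 2 F q) := LieClassical.GUOrder.finite_GU 2
  have h1 : PSub 2 ((H' ⊓ ker (NB hq ε F) (Fin m)).subgroupOf (ker (NB hq ε F) (Fin m))) := hH.inf_normal_subgroupOf
  have h3 := h1.map (fk_surjective (ε := ε) hF hq i)
  have h4 : ¬ r ∣ Nat.card (((H' ⊓ ker (NB hq ε F) (Fin m)).subgroupOf (ker (NB hq ε F) (Fin m))).map (fk hF hq ε i)) := by
    intro hd
    apply hrH
    refine hd.trans ((Subgroup.card_map_dvd _ _).trans ?_)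
    rw [Nat.card_congr (Subgroup.subgroupOfEquivOfLe (inf_le_right : H' ⊓ ker (NB hq ε F) (Fin m) ≤ _)).toEquiv]
    exact Subgroup.card_dvd_of_le inf_le_left
  obtain ⟨k, hk⟩ := h2
  obtain ⟨c, hc⟩ := (twoGp_gu hr hF hq3).scalar hr h3 h4
    (x := fk hF hq ε i ⟨x, mem_ker.2 hfix⟩) ⟨⟨x, mem_ker.2 hfix⟩, ⟨hx, mem_ker.2 hfix⟩, rfl⟩
    ⟨k, by rw [← map_pow, show (⟨x, mem_ker.2 hfix⟩ : ker (NB hq ε F) (Fin m)) ^ 2 ^ k = 1 from Subtype.ext hk, map_one]⟩
  exact comm_of_scalar (isB_of_fix hfix) hc hy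

end ha

/-! ### the centraliser of the blocks -/

section cen

variable {F : Type*} [Field F] [Fintype F] {q n m s : ℕ} {ε : Fin n ≃ (Fin 2 × Fin m) ⊕ Fin s}

/-- diagonal elements of `K k` -/
theorem exists_D (hF : Fintype.card F = q ^ 2) (k : Fin m) {a : F} (ha : a ^ (q + 1) = 1) :
    ∃ A ∈ KG ε F q k, gm A = Matrix.diagonal fun i => (if i = cc ε k 0 then a else 1) * (if i = cc ε k 1 then a⁻¹ else 1) := by
  have ha0 : a ≠ 0 := by
    rintro rfl
    rw [zero_pow (by omega)] at ha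
    exact zero_ne_one ha
  have h1 : ∀ i : Fin n, ((if i = cc ε k 0 then a else 1) * (if i = cc ε k 1 then a⁻¹ else 1)) ^ (q + 1) = 1 := by
    intro i
    rw [mul_pow]
    split_ifs <;> simp [ha]
  refine ⟨guDiag q _ h1, ⟨fun v hv => ?_, ?_⟩, rfl⟩
  · change Matrix.diagonal _ *ᵥ v = v
    funext i
    rw [mulVec_diagonal]
    by_cases hi : blk ε i = some k
    · rw [hv i hi, mul_zero]
    · rw [if_neg, if_neg, one_mul, one_mul]
      · rintro rfl
        exact hi (blk_cc k 1)
      · rintro rfl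
        exact hi (blk_cc k 0)
  · change (Matrix.diagonal _).det = 1
    rw [det_diagonal, Finset.prod_mul_distrib, Finset.prod_ite_eq' Finset.univ (cc ε k 0) (fun _ => a),
      Finset.prod_ite_eq' Finset.univ (cc ε k 1) (fun _ => a⁻¹), if_pos (Finset.mem_univ _), if_pos (Finset.mem_univ _),
      mul_inv_cancel₀ ha0]

/-- the element `(0 -1; 1 0)` of `K k` -/
theorem exists_J (hF : Fintype.card F = q ^ 2) (k : Fin m) :
    ∃ A ∈ KG ε F q k, gm A (cc ε k 0) (cc ε k 1) ≠ 0 := by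
  have hneg : (-1 : F) ^ q = -1 := by
    rw [← LieClassical.GUOrder.frob_apply hF, map_neg, map_one]
  have ha : ∀ i, (fun i : Fin n => if i = cc ε k 0 then (-1 : F) else 1) i ^ (q + 1) = 1 := by
    intro i
    simp only
    split_ifs
    · rw [pow_succ, hneg]; ring
    · exact one_pow _
  have hne : cc ε k 0 ≠ cc ε k 1 := fun h => absurd (cc_inj h).2 (by decide)
  refine ⟨guDiag q _ ha * guPerm q (Equiv.swap (cc ε k 0) (cc ε k 1)), ⟨fun v hv => ?_, ?_⟩, ?_⟩
  · rw [gm_mul, ← mulVec_mulVec]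
    change Matrix.diagonal _ *ᵥ (Equiv.Perm.permMatrix F _ *ᵥ v) = v
    funext i
    rw [mulVec_diagonal, Matrix.permMatrix_mulVec, Function.comp_apply]
    by_cases hi : blk ε i = some k
    · obtain ⟨b, rfl⟩ := exists_cc hi
      have h1 : v (cc ε k 0) = 0 := hv _ (blk_cc k 0)
      have h2 : v (cc ε k 1) = 0 := hv _ (blk_cc k 1)
      obtain rfl | rfl : b = 0 ∨ b = 1 := by omega
      · rw [Equiv.swap_apply_left, h2, mul_zero, h1]
      · rw [Equiv.swap_apply_right, h1, mul_zero, h2]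
    · have h0 : i ≠ cc ε k 0 := by
        rintro rfl
        exact hi (blk_cc k 0)
      have h1 : i ≠ cc ε k 1 := by
        rintro rfl
        exact hi (blk_cc k 1)
      rw [if_neg h0, one_mul, Equiv.swap_apply_of_ne_of_ne h0 h1]
  · rw [gm_mul, det_mul]
    have h1 : (gm (guDiag q _ ha : GU n F q)).det = -1 := by
      change (diagonal (fun i : Fin n => if i = cc ε k 0 then (-1 : F) else 1)).det = -1
      rw [det_diagonal, Finset.prod_ite_eq' Finset.univ (cc ε k 0) (fun _ => (-1 : F)), if_pos (Finset.mem_univ _)]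
    have h2 : (gm (guPerm q (Equiv.swap (cc ε k 0) (cc ε k 1)) : GU n F q)).det = -1 := by
      change ((Equiv.swap (cc ε k 0) (cc ε k 1)).permMatrix F).det = -1
      rw [det_permutation, Equiv.Perm.sign_swap hne]
      simp
    rw [h1, h2]
    ring
  · have h3 : gm (guDiag q _ ha * guPerm q (Equiv.swap (cc ε k 0) (cc ε k 1)) : GU n F q) (cc ε k 0) (cc ε k 1) = -1 := by
      rw [gm_mul]
      change (Matrix.diagonal (fun i : Fin n => if i = cc ε k 0 then (-1 : F) else 1) *
        (Equiv.swap (cc ε k 0) (cc ε k 1)).permMatrix F) (cc ε k 0) (cc ε k 1) = _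
      rw [diagonal_mul, Equiv.Perm.permMatrix, PEquiv.toMatrix_apply, if_pos rfl, if_pos, mul_one]
      rw [Equiv.toPEquiv_apply, Equiv.swap_apply_left]
      rfl
    rw [h3]
    exact neg_ne_zero.2 one_ne_zero

/-- an element centralising all blocks is diagonal, and scalar on each block -/
theorem diag_of_comm (hF : Fintype.card F = q ^ 2) (hq3 : 3 < q) (hs : s ≤ 1) {hq : q ≠ 0} {x : NB hq ε F}
    (hx : ∀ i : Fin m, ∀ y ∈ KB hq ε F i, x * y = y * x) :
    (∀ i j, i ≠ j → gm (x : GU n F q) i j = 0) ∧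
      ∀ k, gm (x : GU n F q) (cc ε k 0) (cc ε k 0) = gm (x : GU n F q) (cc ε k 1) (cc ε k 1) := by
  obtain ⟨a, ha1, ha2⟩ := ClassicalGeometry.PSUAutDelta.exists_norm_one_sq_ne hF
  have ha' : a ^ (q + 1) = 1 := by rw [pow_succ', ha1]
  have ha0 : a ≠ 0 := by
    rintro rfl
    rw [zero_pow (by omega)] at ha'
    exact zero_ne_one ha'
  have ha3 : a ≠ 1 := by
    rintro rfl
    exact ha2 (one_pow 2)
  have ha4 : a ≠ a⁻¹ := by
    intro h
    apply ha2
    rw [pow_two]
    nth_rewrite 2 [h]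
    exact mul_inv_cancel₀ ha0
  have ha5 : a⁻¹ ≠ 1 := fun h => ha3 (inv_eq_one.1 h)
  have hcomm : ∀ k, ∀ y ∈ KG ε F q k, gm (x : GU n F q) * gm y = gm y * gm (x : GU n F q) := by
    intro k y hy
    have h1 := hx k ⟨y, KG_le hq k hy⟩ hy
    exact congrArg gm (congrArg Subtype.val h1)
  have hne : ∀ k, cc ε k 0 ≠ cc ε k 1 := fun k h => absurd (cc_inj h).2 (by decide)
  -- off diagonal entries
  have hoff : ∀ k i j, i ≠ j → (blk ε i = some k ∨ blk ε j = some k) → gm (x : GU n F q) i j = 0 := by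
    intro k i j hij hk
    obtain ⟨D, hD1, hD2⟩ := exists_D (ε := ε) hF k ha'
    have h1 := congrFun (congrFun (hcomm k D hD1) i) j
    rw [hD2, mul_diagonal, diagonal_mul, mul_comm, ← sub_eq_zero, ← sub_mul, mul_eq_zero] at h1
    refine h1.resolve_left ?_
    refine sub_ne_zero.2 ?_
    rcases hk with hk | hk
    · obtain ⟨b, rfl⟩ := exists_cc hk
      obtain rfl | rfl : b = 0 ∨ b = 1 := by omega
      · rw [if_pos rfl, if_neg (hne k), mul_one, if_neg hij.symm, one_mul]
        split_ifs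
        · exact ha4.symm
        · exact ha3.symm
      · rw [if_pos rfl, if_neg (hne k).symm, one_mul]
        rw [if_neg (show ¬ j = cc ε k 1 from hij.symm), mul_one]
        split_ifs
        · exact ha4
        · exact ha5.symm
    · obtain ⟨b, rfl⟩ := exists_cc hk
      obtain rfl | rfl : b = 0 ∨ b = 1 := by omega
      · rw [if_pos rfl, if_neg (hne k), mul_one, if_neg hij, one_mul]
        split_ifs
        · exact ha4
        · exact ha3
      · rw [if_pos rfl, if_neg (hne k).symm, one_mul, if_neg (show ¬ i = cc ε k 1 from hij), mul_one]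
        split_ifs
        · exact ha4.symm
        · exact ha5
  refine ⟨fun i j hij => ?_, fun k => ?_⟩
  · rcases hi : blk ε i with _ | k
    · rcases hj : blk ε j with _ | k
      · exfalso
        apply hij
        unfold blk at hi hj
        apply ε.injective
        rcases hi' : ε i with ⟨a, l⟩ | y <;> rw [hi'] at hi
        · exact absurd hi (by simp)
        · rcases hj' : ε j with ⟨a, l⟩ | z <;> rw [hj'] at hj
          · exact absurd hj (by simp)
          · have : y = z := by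
              apply Fin.ext
              omega
            rw [this]
      · exact hoff k i j hij (Or.inr hj)
    · exact hoff k i j hij (Or.inl hi)
  · obtain ⟨J, hJ1, hJ2⟩ := exists_J (ε := ε) hF k
    have h1 := congrFun (congrFun (hcomm k J hJ1) (cc ε k 0)) (cc ε k 1)
    rw [mul_apply, mul_apply, Finset.sum_eq_single (cc ε k 0), Finset.sum_eq_single (cc ε k 1)] at h1
    · rw [mul_comm] at h1
      exact mul_left_cancel₀ hJ2 h1
    · intro l _ hl
      rw [hoff k l (cc ε k 1) hl (Or.inr (blk_cc k 1)), mul_zero]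
    · intro h
      exact absurd (Finset.mem_univ _) h
    · intro l _ hl
      rw [hoff k (cc ε k 0) l (Ne.symm hl) (Or.inl (blk_cc k 0)), zero_mul]
    · intro h
      exact absurd (Finset.mem_univ _) h

end cen

/-! ### the unipotent radical of the stabiliser of a singular point -/

section uni

variable {F : Type*} [Field F] [Fintype F] {q n : ℕ}

/-- the unipotent radical -/
def Uw (q : ℕ) (w : Fin n → F) : Subgroup (GU n F q) where
  carrier := {g | gm g *ᵥ w = w ∧ ∀ v, hermForm n F q v w = 0 → ∃ a : F, gm g *ᵥ v = v + a • w}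
  one_mem' := ⟨by rw [gm_one, one_mulVec], fun v _ => ⟨0, by rw [gm_one, one_mulVec, zero_smul, add_zero]⟩⟩
  mul_mem' := by
    rintro g h ⟨h1, h2⟩ ⟨h3, h4⟩
    refine ⟨?_, fun v hv => ?_⟩
    · rw [gm_mul, ← mulVec_mulVec, h3, h1]
    · obtain ⟨a, ha⟩ := h4 v hv
      obtain ⟨b, hb⟩ := h2 v hv
      refine ⟨b + a, ?_⟩
      rw [gm_mul, ← mulVec_mulVec, ha, mulVec_add, mulVec_smul, hb, h1, add_smul, add_assoc]
  inv_mem' := by
    rintro g ⟨h1, h2⟩
    have h3 : gm g⁻¹ *ᵥ w = w := by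
      conv_lhs => rw [← h1]
      exact gm_inv_mulVec g w
    refine ⟨h3, fun v hv => ?_⟩
    have h4 : hermForm n F q (gm g⁻¹ *ᵥ v) w = 0 := by
      rw [← hv, ← herm_gm g⁻¹ v w, h3]
    obtain ⟨a, ha⟩ := h2 _ h4
    rw [gm_mulVec_inv] at ha
    refine ⟨-a, ?_⟩
    rw [neg_smul, ← sub_eq_add_neg, eq_sub_iff_add_eq, ← ha]

theorem isPGroup_Uw {r : ℕ} [Fact r.Prime] [CharP F r] (hr : r ≠ 2) (hn : 0 < n) {w : Fin n → F}
    (hw : hermForm n F q w w = 0) : IsPGroup r (Uw q w) := by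
  have hne : Nonempty (Fin n) := ⟨⟨0, hn⟩⟩
  rintro ⟨g, h1, h2⟩
  refine ⟨1, ?_⟩
  apply Subtype.ext
  apply gm_inj
  show gm (g ^ r ^ 1) = 1
  have h0 : gm (g ^ r ^ 1) = gm g ^ r := by
    rw [pow_one]
    exact H709.GmnPSU.gm_pow g r
  rw [h0]
  have h3 : (gm g - 1) * ((gm g - 1) * (gm g - 1)) = 0 := by
    apply Matrix.ext_of_mulVec_single
    intro i
    obtain ⟨v, hv⟩ : ∃ v : Fin n → F, v = Pi.single i 1 := ⟨_, rfl⟩
    rw [← hv]
    rw [zero_mulVec, ← mulVec_mulVec, ← mulVec_mulVec, sub_mulVec (gm g) 1 v, one_mulVec]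
    have h4 : hermForm n F q (gm g *ᵥ v - v) w = 0 := by
      rw [herm_sub_left]
      nth_rewrite 1 [← h1]
      rw [herm_gm, sub_self]
    obtain ⟨a, ha⟩ := h2 _ h4
    rw [sub_mulVec (gm g) 1 (gm g *ᵥ v - v), one_mulVec, ha, add_sub_cancel_left, sub_mulVec, one_mulVec, mulVec_smul, h1,
      sub_self]
  have h4 : gm g = 1 + (gm g - 1) := by abel
  have h5 : (gm g - 1) ^ r = 0 := by
    have h6 : 3 ≤ r := by
      have := (Fact.out : r.Prime).two_le
      omega
    obtain ⟨d, rfl⟩ := Nat.exists_eq_add_of_le h6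
    rw [pow_add, pow_succ', pow_two, h3, zero_mul]
  rw [h4, add_pow_char_of_commute r (Commute.one_left _), h5, one_pow, add_zero]

theorem conj_Uw {w : Fin n → F} {s g : GU n F q} {c : F} (hc : c ≠ 0) (hs : gm s *ᵥ w = c • w) (hg : g ∈ Uw q w) :
    s * g * s⁻¹ ∈ Uw q w := by
  have h0 : gm s⁻¹ *ᵥ w = c⁻¹ • w := by
    have h1 : gm s⁻¹ *ᵥ (c • w) = w := by rw [← hs, gm_inv_mulVec]
    rw [mulVec_smul] at h1
    rw [← h1, smul_smul, inv_mul_cancel₀ hc, one_smul, h1]
  obtain ⟨h1, h2⟩ := hg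
  refine ⟨?_, fun v hv => ?_⟩
  · rw [gm_mul, gm_mul, ← mulVec_mulVec, ← mulVec_mulVec, h0, mulVec_smul, h1, mulVec_smul, hs, smul_smul,
      inv_mul_cancel₀ hc, one_smul]
  · have h3 : hermForm n F q (gm s⁻¹ *ᵥ v) w = 0 := by
      rw [← herm_gm s, gm_mulVec_inv, hs, herm_smul_right, hv, mul_zero]
    obtain ⟨a, ha⟩ := h2 _ h3
    refine ⟨a * c, ?_⟩
    rw [gm_mul, gm_mul, ← mulVec_mulVec, ← mulVec_mulVec, ha, mulVec_add, mulVec_smul, gm_mulVec_inv, hs, smul_smul]

/-- Siegel transformations -/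
theorem exists_siegel (hF : Fintype.card F = q ^ 2) (h2 : (2 : F) ≠ 0) {w : Fin n → F} (hw : hermForm n F q w w = 0)
    {i : Fin n} (hi : w i = 0) : ∃ g ∈ Uw q w, ∀ v, gm g *ᵥ v =
      v + hermForm n F q v w • Pi.single i 1 - v i • w - ((2 : F)⁻¹ * hermForm n F q v w) • w := by
  have hq : q ≠ 0 := by
    rintro rfl
    have h1 : 1 < Fintype.card F := Fintype.one_lt_card
    rw [hF] at h1
    norm_num at h1
  let T : (Fin n → F) →ₗ[F] (Fin n → F) :=
    { toFun := fun v => v + hermForm n F q v w • Pi.single i 1 - v i • w - ((2 : F)⁻¹ * hermForm n F q v w) • w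
      map_add' := fun u v => by
        rw [herm_add_left, Pi.add_apply, mul_add, add_smul, add_smul, add_smul]
        abel
      map_smul' := fun c v => by
        rw [herm_smul_left, Pi.smul_apply, smul_eq_mul, RingHom.id_apply, smul_sub, smul_sub, smul_add, smul_smul,
          smul_smul, smul_smul, mul_left_comm] }
  have hT : ∀ v, LinearMap.toMatrix' T *ᵥ v =
      v + hermForm n F q v w • Pi.single i 1 - v i • w - ((2 : F)⁻¹ * hermForm n F q v w) • w := fun v =>
    LinearMap.toMatrix'_mulVec T v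
  have h2q : ((2 : F)⁻¹) ^ q = (2 : F)⁻¹ := by
    rw [← LieClassical.GUOrder.frob_apply hF, map_inv₀, map_ofNat]
  have hpres : ∀ u v, hermForm n F q (LinearMap.toMatrix' T *ᵥ u) (LinearMap.toMatrix' T *ᵥ v) = hermForm n F q u v := by
    intro u v
    rw [hT, hT]
    simp only [herm_add_left, herm_sub_left, herm_add_right hF, herm_sub_right hF, herm_smul_left, herm_smul_right,
      herm_single_left, herm_single_right hF, Pi.single_eq_same, hw, hi, mul_pow, h2q, one_pow, zero_pow hq]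
    rw [herm_swap hF v w]
    simp only [Pi.add_apply, Pi.sub_apply, Pi.smul_apply, Pi.single_eq_same, smul_eq_mul, hi]
    have h3 : (2 : F)⁻¹ * 2 = 1 := inv_mul_cancel₀ h2
    linear_combination (-(hermForm n F q u w) * hermForm n F q v w ^ q) * h3
  have hdet : (LinearMap.toMatrix' T).det ≠ 0 := by
    intro h
    have h3 := congrArg Matrix.det (transpose_mul_map hq hpres)
    rw [det_mul, det_transpose, h, zero_mul, det_one] at h3
    exact zero_ne_one h3
  refine ⟨⟨Matrix.GeneralLinearGroup.mkOfDetNeZero _ hdet, (mem_GU_iff _).2 hpres⟩, ⟨?_, fun v hv => ⟨-v i, ?_⟩⟩, hT⟩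
  · show LinearMap.toMatrix' T *ᵥ w = w
    rw [hT, hw, hi, zero_smul, zero_smul, mul_zero, zero_smul, add_zero, sub_zero, sub_zero]
  · show LinearMap.toMatrix' T *ᵥ v = _
    rw [hT, hv, mul_zero, zero_smul, zero_smul, add_zero, sub_zero, neg_smul, sub_eq_add_neg]

end uni

/-! ### assembly -/

section asm

variable {F : Type} [Field F] [Fintype F] {r : ℕ} [Fact r.Prime] [CharP F r] {q n : ℕ}

theorem two_ne (hr : r ≠ 2) : (2 : F) ≠ 0 := by
  intro h
  have h1 : ((2 : ℕ) : F) = 0 := by exact_mod_cast h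
  rw [CharP.cast_eq_zero_iff F r] at h1
  exact hr ((Nat.prime_dvd_prime_iff_eq (Fact.out : r.Prime) Nat.prime_two).1 h1)

/-- the block principle in `GU_n(q)` -/
theorem mem_center_gu (hr : r ≠ 2) (hF : Fintype.card F = q ^ 2) (hq3 : 3 < q) (hn : 2 ≤ n) {H : Subgroup (GU n F q)}
    (hH : PSub 2 H) (hrH : ¬ r ∣ Nat.card H) {x : GU n F q} (hx : x ∈ H) (hx2 : ∃ k : ℕ, x ^ 2 ^ k = 1) :
    x ∈ Subgroup.center (GU n F q) := by
  have hfin : Finite (GU n F q) := LieClassical.GUOrder.finite_GU n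
  have hq : q ≠ 0 := by omega
  have h2 : (2 : F) ≠ 0 := two_ne hr
  -- coordinates
  obtain ⟨ε⟩ : Nonempty (Fin n ≃ (Fin 2 × Fin (n / 2)) ⊕ Fin (n % 2)) := by
    refine ⟨Fintype.equivOfCardEq ?_⟩
    rw [Fintype.card_sum, Fintype.card_prod, Fintype.card_fin, Fintype.card_fin, Fintype.card_fin, Fintype.card_fin]
    exact (Nat.div_add_mod n 2).symm
  have hs : n % 2 ≤ 1 := by omega
  obtain ⟨k0⟩ : Nonempty (Fin (n / 2)) := ⟨⟨0, by omega⟩⟩
  have hne : cc ε k0 0 ≠ cc ε k0 1 := fun h => absurd (cc_inj h).2 (by decide)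
  -- a singular vector
  obtain ⟨l, hl⟩ := exists_norm_eq hF (c := (-1 : F)) (by
    rw [← LieClassical.GUOrder.frob_apply hF, map_neg, map_one])
  obtain ⟨w, hwd⟩ : ∃ w : Fin n → F, w = Pi.single (cc ε k0 0) 1 + Pi.single (cc ε k0 1) l := ⟨_, rfl⟩
  have hw0 : w (cc ε k0 0) = 1 := by
    rw [hwd, Pi.add_apply, Pi.single_eq_same, Pi.single_eq_of_ne hne, add_zero]
  have hw1 : w (cc ε k0 1) = l := by
    rw [hwd, Pi.add_apply, Pi.single_eq_same, Pi.single_eq_of_ne hne.symm, zero_add]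
  have hww : hermForm n F q w w = 0 := by
    nth_rewrite 1 [hwd]
    rw [herm_add_left, herm_single_left, herm_single_left, hw0, hw1, hl, one_pow]
    ring
  have hwi : ∀ i, blk ε i ≠ some k0 → w i = 0 := by
    intro i hi
    rw [hwd, Pi.add_apply, Pi.single_eq_of_ne, Pi.single_eq_of_ne, add_zero]
    · rintro rfl
      exact hi (blk_cc k0 1)
    · rintro rfl
      exact hi (blk_cc k0 0)
  -- elements centralising the blocks
  have hdiag : ∀ s : NB hq ε F, (∀ i : Fin (n / 2), ∀ y ∈ KB hq ε F i, s * y = y * s) → ∀ v i,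
      (gm (s : GU n F q) *ᵥ v) i = gm (s : GU n F q) i i * v i := by
    intro s hs1 v i
    have h3 := (diag_of_comm hF hq3 hs hs1).1
    show ∑ j, gm (s : GU n F q) i j * v j = _
    rw [Finset.sum_eq_single i]
    · intro j _ hj
      rw [h3 i j hj.symm, zero_mul]
    · intro h
      exact absurd (Finset.mem_univ _) h
  have hsw : ∀ s : NB hq ε F, (∀ i : Fin (n / 2), ∀ y ∈ KB hq ε F i, s * y = y * s) →
      gm (s : GU n F q) *ᵥ w = gm (s : GU n F q) (cc ε k0 0) (cc ε k0 0) • w := by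
    intro s hs1
    funext i
    rw [hdiag s hs1, Pi.smul_apply, smul_eq_mul]
    by_cases hi : blk ε i = some k0
    · obtain ⟨b, rfl⟩ := exists_cc hi
      obtain rfl | rfl : b = 0 ∨ b = 1 := by omega
      · rfl
      · rw [(diag_of_comm hF hq3 hs hs1).2 k0]
    · rw [hwi i hi, mul_zero, mul_zero]
  have hc0 : ∀ s : NB hq ε F, (∀ i : Fin (n / 2), ∀ y ∈ KB hq ε F i, s * y = y * s) →
      gm (s : GU n F q) (cc ε k0 0) (cc ε k0 0) ≠ 0 := by
    intro s hs1 h
    have h3 := hsw s hs1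
    rw [h, zero_smul] at h3
    have h4 := gm_inv_mulVec (s : GU n F q) w
    rw [h3, mulVec_zero] at h4
    rw [← h4] at hw0
    exact zero_ne_one hw0
  refine mem_of_blocks (r := r) hH hrH (L := NB hq ε F) (not_dvd_index hF (odd_q (r := r) hr hF) hs ε) (KB hq ε F)
    hK comm htriv (ha hr hF hq3) ?_ (A := Uw q w) (isPGroup_Uw hr (by omega) hww) ?_ (Z := Subgroup.center (GU n F q)) ?_ hx hx2
  · intro i
    obtain ⟨e⟩ := equiv_KB (ε := ε) hF (hq := hq) i
    have h3 := (twoGp_gu hr hF hq3).dvd_card_sylow hr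
    rwa [H482.SylowNumbers.card_sylow_congr 2 e] at h3
  · intro s _ hs1 a ha'
    exact conj_Uw (hc0 s hs1) (hsw s hs1) ha'
  · intro s _ hs1 hsA
    rw [Subgroup.mem_center_iff]
    have h3 : ∀ i, gm (s : GU n F q) i i = gm (s : GU n F q) (cc ε k0 0) (cc ε k0 0) := by
      intro i
      by_cases hi : blk ε i = some k0
      · obtain ⟨b, rfl⟩ := exists_cc hi
        obtain rfl | rfl : b = 0 ∨ b = 1 := by omega
        · rfl
        · rw [(diag_of_comm hF hq3 hs hs1).2 k0]
      · obtain ⟨g, hg1, hg2⟩ := exists_siegel hF h2 hww (hwi i hi)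
        have h4 := congrArg (fun A : GU n F q => (gm A *ᵥ (Pi.single (cc ε k0 0) 1)) i) (hsA g hg1)
        simp only [gm_mul, ← mulVec_mulVec] at h4
        have h5 : i ≠ cc ε k0 0 := by
          rintro rfl
          exact hi (blk_cc k0 0)
        rw [hdiag s hs1, hg2, hg2] at h4
        simp only [Pi.add_apply, Pi.sub_apply, Pi.smul_apply, smul_eq_mul, herm_single_left, Pi.single_eq_same,
          hwi i hi, Pi.single_eq_of_ne h5, hdiag s hs1, mul_zero, sub_zero, zero_add, mul_one, hw0, one_pow] at h4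
        have h6 : gm (s : GU n F q) *ᵥ Pi.single (cc ε k0 0) 1 =
            Pi.single (cc ε k0 0) (gm (s : GU n F q) (cc ε k0 0) (cc ε k0 0)) := by
          funext j
          rw [hdiag s hs1]
          by_cases hj : j = cc ε k0 0
          · subst hj
            rw [Pi.single_eq_same, Pi.single_eq_same, mul_one]
          · rw [Pi.single_eq_of_ne hj, Pi.single_eq_of_ne hj, mul_zero]
        rw [h6, herm_single_left, hw0, one_pow, mul_one] at h4
        exact h4.symm
    have h7 : gm (s : GU n F q) = gm (s : GU n F q) (cc ε k0 0) (cc ε k0 0) • (1 : Matrix (Fin n) (Fin n) F) := by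
      ext i j
      rw [Matrix.smul_apply, smul_eq_mul]
      by_cases hij : i = j
      · subst hij
        rw [one_apply_eq, mul_one, h3]
      · rw [one_apply_ne hij, mul_zero, (diag_of_comm hF hq3 hs hs1).1 i j hij]
    intro A
    apply gm_inj
    rw [gm_mul, gm_mul, h7, Matrix.smul_mul, Matrix.mul_smul, one_mul, mul_one]

/-- the same in `SU_n(q)` -/
theorem mem_center_su (hr : r ≠ 2) (hF : Fintype.card F = q ^ 2) (hq3 : 3 < q) (hn : 2 ≤ n) {H : Subgroup (SU n F q)}
    (hH : PSub 2 H) (hrH : ¬ r ∣ Nat.card H) {x : SU n F q} (hx : x ∈ H) (hx2 : ∃ k : ℕ, x ^ 2 ^ k = 1) :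
    x ∈ Subgroup.center (SU n F q) := by
  have hfin : Finite (GU n F q) := LieClassical.GUOrder.finite_GU n
  have hinj := Gap.suGU_injective (n := n) (F := F) (q := q)
  have hfinS : Finite (SU n F q) := Finite.of_injective _ hinj
  have hnorm : ((Gap.suGU n F q).range).Normal := by
    have h1 : (Gap.suGU n F q).range = ((Matrix.GeneralLinearGroup.det (n := Fin n) (R := F)).comp (GU n F q).subtype).ker := by
      ext A
      rw [MonoidHom.mem_ker]
      constructor
      · rintro ⟨B, rfl⟩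
        exact Units.ext (B : Matrix.SpecialLinearGroup (Fin n) F).2
      · intro hA
        obtain ⟨g, hg⟩ := H183.OutPSU.exists_SU_of_det A (congrArg Units.val hA)
        exact ⟨g, gm_inj hg.symm⟩
    rw [h1]
    exact MonoidHom.normal_ker _
  have h1 : PSub 2 (H.map (Gap.suGU n F q)) := by
    refine PSub.of_subgroupOf_normal (N := (Gap.suGU n F q).range) (Subgroup.map_le_range _ _) ?_
    have h2 := hH.map_equiv (MonoidHom.ofInjective hinj)
    have h3 : H.map (MonoidHom.ofInjective hinj).toMonoidHom = (H.map (Gap.suGU n F q)).subgroupOf (Gap.suGU n F q).range := by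
      ext y
      constructor
      · rintro ⟨z, hz, rfl⟩
        exact ⟨z, hz, rfl⟩
      · rintro ⟨z, hz, hzy⟩
        exact ⟨z, hz, Subtype.ext hzy⟩
    rwa [h3] at h2
  have h4 : ¬ r ∣ Nat.card (H.map (Gap.suGU n F q)) := by
    rwa [← Nat.card_congr (H.equivMapOfInjective _ hinj).toEquiv]
  obtain ⟨k, hk⟩ := hx2
  have h5 := mem_center_gu hr hF hq3 hn h1 h4 (x := Gap.suGU n F q x) ⟨x, hx, rfl⟩ ⟨k, by rw [← map_pow, hk, map_one]⟩
  rw [Subgroup.mem_center_iff] at h5 ⊢
  intro g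
  apply hinj
  rw [map_mul, map_mul]
  exact h5 _

/-- **Row K3 of S4243.** -/
theorem noP_psu (hr : r ≠ 2) (hF : Fintype.card F = q ^ 2) (hq : 3 < q) (hn : 3 ≤ n) : NoP 2 r (PSU n F q) := by
  have hfin : Finite (GU n F q) := LieClassical.GUOrder.finite_GU n
  have hfinS : Finite (SU n F q) := Finite.of_injective _ (Gap.suGU_injective (n := n) (F := F) (q := q))
  refine noP_of_central (G := SU n F q) (Z := Subgroup.center (SU n F q)) ?_ ?_
  · rw [S0280.card_center hF n (by omega)]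
    intro hd
    have h1 := hd.trans (Nat.gcd_dvd_right n (q + 1))
    obtain ⟨k, hk⟩ := exists_pow (r := r) hF
    have h2 : r ∣ q := by
      rw [hk]
      refine dvd_pow_self r ?_
      rintro rfl
      rw [pow_zero] at hk
      omega
    have h3 := (Nat.dvd_add_right h2).1 h1
    exact (Fact.out : r.Prime).one_lt.ne' (Nat.dvd_one.1 h3)
  · intro H hH hrH x hx hx2
    exact mem_center_su hr hF hq (by omega) hH hrH hx hx2

end asm

end Cfsg.Agent.H567.KW
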